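import Groth.Agent.ProjMor.Over
import Groth.Agent.ProjMor.Morph
import Groth.Agent.TMul.AmpleBasis
import Groth.Agent.TMul.GlobGen
import Groth.Agent.ZeroSch.Basic
import Groth.Agent.SymAlg.VAmplePn
import Groth.Agent.GrT.Gamma
import Groth.Agent.S19887
import Groth.Agent.GrassPlucker.Morphism
import Groth.Agent.NegTwist.Connected

/-!
# The ideal of a birational projective morphism
-/

set_option autoImplicit false
set_option linter.style.haveILetI false
set_option backward.isDefEq.respectTransparency false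
set_option backward.isDefEq.respectTransparency.types false

universe u

open CategoryTheory CategoryTheory.Limits AlgebraicGeometry TopologicalSpace
open Groth.Agent.QC (res resO res_res res_smul resO_resO resO_self res_self app_res)
open TMul (IsGen tm pw tw val homOf val_homOf)

noncomputable section

namespace Groth.Agent.BiratBlow

variable {Z X : Scheme.{u}} {N : ℕ} (i : Z ⟶ CohB1.ProjSpaceOver N X)

/-- The coordinate opens. -/
def C (j : Fin (N + 1)) : Z.Opens := (i ≫ ProjMor.pz N X) ⁻¹ᵁ ProjMor.chart N j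

/-- The ratios of coordinates. -/
def c (j k : Fin (N + 1)) : Γ(Z, C i j) :=
  ProjMor.ev (i ≫ ProjMor.pz N X) (ProjMor.chart N j) (C i j) le_rfl (ProjMor.ratio N j k)

theorem exists_mem_C (z : Z) : ∃ j, z ∈ C i j := by
  have h : ⨆ j, ProjMor.chart.{u} N j = ⊤ := GrassPlucker.iSup_basicOpen_X
  obtain ⟨j, hj⟩ := Opens.mem_iSup.1 (h.ge (show (i ≫ ProjMor.pz N X) z ∈ (⊤ : (CohB1.ProjSpace N _).Opens) from trivial))
  exact ⟨j, hj⟩

theorem c_self (j : Fin (N + 1)) : c i j j = 1 := by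
  rw [c, show ProjMor.ratio.{u} N j j = 1 from GrT.deh_self _ _]
  exact map_one _

theorem c_cross (j l k : Fin (N + 1)) {V : Z.Opens} (h1 : V ≤ C i j) (h2 : V ≤ C i l) :
    resO Z h1 (c i j k) = resO Z h1 (c i j l) * resO Z h2 (c i l k) := by
  have e := congrArg (ProjMor.ev (i ≫ ProjMor.pz N X)
      (ProjMor.chart N j ⊓ ProjMor.chart N l) V (le_inf h1 h2))
    (GrT.deh_cross (CohB1.polyGrading N (ULift.{u} ℤ)) (MvPolynomial.isHomogeneous_X _ j)
      (MvPolynomial.isHomogeneous_X _ l) (n := 1) (a := MvPolynomial.X k)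
      (MvPolynomial.isHomogeneous_X _ k) inf_le_left inf_le_right)
  rw [map_mul, pow_one] at e
  refine (ProjMor.ev_res _ _ h1 _).trans ?_
  refine Eq.trans ((ProjMor.ev_resO _ _ inf_le_left _).symm.trans (e.trans (congrArg₂ (· * ·)
    (ProjMor.ev_resO _ _ inf_le_left _) (ProjMor.ev_resO _ _ inf_le_right _)))) ?_
  exact (congrArg₂ (· * ·) (ProjMor.ev_res _ _ h1 _) (ProjMor.ev_res _ _ h2 _)).symm

theorem basicOpen_c (j l : Fin (N + 1)) : Z.basicOpen (c i j l) = C i j ⊓ C i l := by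
  rw [c, show ProjMor.ev (i ≫ ProjMor.pz N X) (ProjMor.chart N j) (C i j) le_rfl (ProjMor.ratio N j l) =
    (i ≫ ProjMor.pz N X).appLE (ProjMor.chart N j) (C i j) le_rfl (ProjMor.ratio N j l) from rfl,
    Scheme.basicOpen_appLE]
  have h : (CohB1.ProjSpace N (ULift.{u} ℤ)).basicOpen (ProjMor.ratio N j l) =
      ProjMor.chart N j ⊓ ProjMor.chart N l := by
    let 𝒜 := CohB1.polyGrading N (ULift.{u} ℤ)
    have hv : ∀ t : Fin (N + 1), MvPolynomial.X t ∈ 𝒜 1 := MvPolynomial.isHomogeneous_X _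
    change (Proj 𝒜).basicOpen (GrT.deh 𝒜 (hv j) (MvPolynomial.X l)) = _
    rw [GrT.deh_of_mem 𝒜 (hv j) (hv l), GrT.basicOpen_away 𝒜 (hv j) one_pos one_pos, Proj.basicOpen_mul]
    rfl
  rw [h]
  ext z
  exact ⟨fun h => h.2, fun h => ⟨h.1, h⟩⟩

variable (f : Z ⟶ X)

/-- The coordinates give the fractions of an ideal sheaf. -/
def IsCoordIdeal (I : X.IdealSheafData) : Prop :=
  ∀ x : X, ∃ (V : X.affineOpens) (a : Fin (N + 1) → Γ(X, V.1)), x ∈ V.1 ∧
    I.ideal V = Ideal.span (Set.range a) ∧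
    (∀ j, ((f ⁻¹ᵁ V.1 ⊓ C i j : Z.Opens) : Set Z).Nonempty →
      f.appLE V.1 (f ⁻¹ᵁ V.1 ⊓ C i j) inf_le_left (a j) ≠ 0) ∧
    ∀ j k, resO Z (inf_le_right : f ⁻¹ᵁ V.1 ⊓ C i j ≤ C i j) (c i j k) *
      f.appLE V.1 (f ⁻¹ᵁ V.1 ⊓ C i j) inf_le_left (a j) =
        f.appLE V.1 (f ⁻¹ᵁ V.1 ⊓ C i j) inf_le_left (a k)

/-- A projective birational morphism to a Noetherian integral scheme with an ample module has a coordinate ideal. -/
theorem exists_isCoordIdeal [IsIntegral Z] [IsIntegral X] [IsNoetherian X] {M : X.Modules} (hM : CohB1.IsAmple M)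
    [IsProper f] (U : X.Opens) (hU : (U : Set X).Nonempty) (hUf : IsIso (f ∣_ U)) :
    ∃ I : X.IdealSheafData, IsCoordIdeal i f I ∧ I.support.compl ≠ ⊥ := by
  have hη : genericPoint X ∈ U := (genericPoint_specializes _).mem_open U.2 hU.choose_spec
  have hinj : ∀ z z', f z ∈ U → f z' = f z → z = z' := fun z z' hz he => by
    have hi : Function.Injective (f ∣_ U) := (f ∣_ U).isOpenEmbedding.injective
    have := @hi ⟨z, hz⟩ ⟨z', show f z' ∈ U from he ▸ hz⟩ (Subtype.ext (by simpa [morphismRestrict_base] using he.symm))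
    exact congrArg Subtype.val this
  obtain ⟨z₀, hz₀⟩ : ∃ z, f z = genericPoint X := by
    have hs : Function.Surjective (f ∣_ U) := (TopCat.epi_iff_surjective _).1 inferInstance
    obtain ⟨z, hz⟩ := hs ⟨_, hη⟩
    exact ⟨z.1, by simpa [morphismRestrict_base] using congrArg Subtype.val hz⟩
  obtain ⟨j0, hj0⟩ := exists_mem_C i z₀
  have hfclosed : IsClosed (f '' (C i j0 : Set Z)ᶜ) := f.isClosedMap _ (C i j0).2.isClosed_compl
  let U0 : X.Opens := U ⊓ ⟨(f '' (C i j0 : Set Z)ᶜ)ᶜ, hfclosed.isOpen_compl⟩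
  have hη0 : genericPoint X ∈ U0 := ⟨hη, fun ⟨z, hz, he⟩ => hz (by
    rwa [hinj z₀ z (hz₀.symm ▸ hη) (he.trans hz₀.symm)] at hj0)⟩
  obtain ⟨n, σ, hσ, hσU, -⟩ := TMul.exists_mem_le hM hη0
  let G := CohB1.genLocus (CohB1.tensorPow M (n + 1)) σ
  have hGC : f ⁻¹ᵁ G ≤ C i j0 := fun z hz => by
    by_contra h
    exact (hσU hz).2 ⟨z, h, rfl⟩
  have hbij : Function.Bijective (f.appLE G (f ⁻¹ᵁ G) le_rfl) := by
    have : IsIso (f.app G) := by
      haveI : IsIso (f ∣_ G) := S19887.isIso_restrict_le f (hσU.trans inf_le_left) hUf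
      have h : ∀ W : X.Opens, W = G.ι ''ᵁ ⊤ → IsIso (f.app W) := by
        rintro W rfl
        have e : IsIso ((f ∣_ G).app ⊤) := inferInstance
        haveI := e
        exact IsIso.of_isIso_fac_right (h := (f ∣_ G).app ⊤) (morphismRestrict_app f G ⊤).symm
      exact h G G.ι_image_top.symm
    rw [Scheme.Hom.appLE_eq_app]
    exact ConcreteCategory.bijective_of_isIso _
  choose r hr using fun k => hbij.2 (resO Z hGC (c i j0 k))
  have hP := TMul.isInvertible_tensorPow hM.1 (n + 1)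
  haveI : (Coh.structureModule X).IsQuasicoherent := Groth.Agent.QC.isQCoh_unit X
  have hext := fun k => TMul.exists_twist_extends_ge (F := Coh.structureModule X) hP σ
    (r k : Γ(X, CohB1.genLocus (CohB1.tensorPow M (n + 1)) σ))
  choose K hK using hext
  let m := Finset.univ.sup K
  choose u hu using fun k => hK k m (Finset.le_sup (Finset.mem_univ k))
  let Q := CohB1.tensorMod (Coh.structureModule X) (CohB1.tensorPow (CohB1.tensorPow M (n + 1)) m)
  have hQ : PicF.IsInvertible Q :=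
    TMul.isInvertible_tensorMod TMul.isInvertible_structureModule (TMul.isInvertible_tensorPow hP m)
  let e : Γ(Q, G) := tm (1 : Γ(X, G)) (pw (val σ G) m)
  have he : IsGen e := TMul.isGen_tm (TMul.isGen_one G) (TMul.isGen_pw (TMul.isGen_genLocus σ) m)
  have hue : ∀ k, res Q (le_top : G ≤ ⊤) (u k) = r k • e := fun k => by
    refine (hu k).trans ?_
    rw [TMul.twist_eq_tm σ (one_smul _ (val σ G)).symm, one_pow, one_smul, ← TMul.smul_tm]
    exact congrArg (fun t => tm t (pw (val σ G) m)) (mul_one (M := Γ(X, G)) (r k)).symm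
  have hr0 : r j0 = 1 := hbij.1 (by rw [hr, c_self, map_one, map_one])
  refine ⟨⨆ k, PicF2.zeroScheme Q (homOf (u k)), fun x => ?_, ?_⟩
  · obtain ⟨W, g, hxW, hg⟩ := TMul.exists_isGen hQ x
    obtain ⟨V, hV, hxV, hVW⟩ := exists_isAffineOpen_mem_and_subset hxW
    have hgV := hg.res hVW
    choose a ha using fun k => (hgV V le_rfl).2 (res Q le_top (u k))
    simp only [res_self] at ha
    have hVG : genericPoint X ∈ V ⊓ G := ⟨(genericPoint_specializes _).mem_open V.2 hxV, hσ⟩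
    have hak : ∀ k, resO X (inf_le_left : V ⊓ G ≤ V) (a k) =
        resO X inf_le_right (r k) * resO X (inf_le_left : V ⊓ G ≤ V) (a j0) := fun k => by
      refine (hgV (V ⊓ G) inf_le_left).1 ?_
      have h1 := congrArg (res Q (inf_le_left : V ⊓ G ≤ V)) (ha k)
      have h2 := congrArg (res Q (inf_le_left : V ⊓ G ≤ V)) (ha j0)
      have h3 := congrArg (res Q (inf_le_right : V ⊓ G ≤ G)) (hue k)
      have h4 := congrArg (res Q (inf_le_right : V ⊓ G ≤ G)) (hue j0)
      rw [hr0, one_smul] at h4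
      simp only [res_smul, res_res] at h1 h2 h3 h4 ⊢
      rw [h1, h3, ← h4, ← h2, smul_smul]
    have hu0 : IsUnit (resO X (inf_le_left : V ⊓ G ≤ V) (a j0)) := by
      have h2 := congrArg (res Q (inf_le_left : V ⊓ G ≤ V)) (ha j0)
      have h4 := congrArg (res Q (inf_le_right : V ⊓ G ≤ G)) (hue j0)
      rw [hr0, one_smul] at h4
      simp only [res_smul, res_res] at h2 h4
      rw [h4] at h2
      have h5 := he.res (inf_le_right : V ⊓ G ≤ G)
      rw [← h2] at h5
      obtain ⟨v, hv⟩ := (h5 (V ⊓ G) le_rfl).2 (res Q (inf_le_left.trans hVW) g)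
      simp only [res_self, smul_smul] at hv
      refine IsUnit.of_mul_eq_one_right v ((hg (V ⊓ G) (inf_le_left.trans hVW)).1 ?_)
      simpa using hv
    have hz₀V : z₀ ∈ f ⁻¹ᵁ (V ⊓ G) := show f z₀ ∈ V ⊓ G from hz₀ ▸ hVG
    -- the coordinates on `V`
    have key : ∀ j k, resO Z (inf_le_right : f ⁻¹ᵁ V ⊓ C i j ≤ C i j) (c i j k) *
        f.appLE V (f ⁻¹ᵁ V ⊓ C i j) inf_le_left (a j) = f.appLE V (f ⁻¹ᵁ V ⊓ C i j) inf_le_left (a k) ∧
        (((f ⁻¹ᵁ V ⊓ C i j : Z.Opens) : Set Z).Nonempty →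
          f.appLE V (f ⁻¹ᵁ V ⊓ C i j) inf_le_left (a j) ≠ 0) := by
      intro j k
      by_cases hj : ((f ⁻¹ᵁ V ⊓ C i j : Z.Opens) : Set Z).Nonempty
      swap
      · refine ⟨?_, fun h => absurd h hj⟩
        exact TopCat.Presheaf.IsSheaf.section_ext Z.sheaf.property fun z hz => absurd ⟨z, hz⟩ hj
      let O : Z.Opens := (f ⁻¹ᵁ V ⊓ C i j) ⊓ f ⁻¹ᵁ (V ⊓ G)
      haveI : Nonempty O := by
        obtain ⟨z, hz⟩ := nonempty_preirreducible_inter (f ⁻¹ᵁ V ⊓ C i j : Z.Opens).2 (f ⁻¹ᵁ (V ⊓ G)).2 hj ⟨z₀, hz₀V⟩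
        exact ⟨⟨z, hz⟩⟩
      have hOG : O ≤ f ⁻¹ᵁ G := fun z hz => hz.2.2
      have hO0 : O ≤ C i j0 := hOG.trans hGC
      have hOj : O ≤ C i j := inf_le_left.trans inf_le_right
      have hOV : O ≤ f ⁻¹ᵁ V := fun z hz => hz.2.1
      have hrel : ∀ l, f.appLE V O hOV (a l) = resO Z hO0 (c i j0 l) * f.appLE V O hOV (a j0) := fun l => by
        have e := congrArg (ProjMor.ev f (V ⊓ G) O inf_le_right) (hak l)
        rw [map_mul] at e
        simp only [ProjMor.ev_resO] at e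
        refine e.trans (congrArg (· * _) ?_)
        rw [← resO_resO hOG hGC, ← hr l, ← ProjMor.ev_res]
        rfl
      have hne : f.appLE V O hOV (a j0) ≠ 0 := by
        have := hu0.map (ProjMor.ev f (V ⊓ G) O inf_le_right)
        rw [ProjMor.ev_resO] at this
        exact this.ne_zero
      have hcjk := c_cross i j0 j k hO0 hOj
      have hres : ∀ l, resO Z (inf_le_left : O ≤ f ⁻¹ᵁ V ⊓ C i j)
          (f.appLE V (f ⁻¹ᵁ V ⊓ C i j) inf_le_left (a l)) = f.appLE V O hOV (a l) := fun l =>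
        ProjMor.ev_res f _ _ _
      have heq : resO Z (inf_le_right : f ⁻¹ᵁ V ⊓ C i j ≤ C i j) (c i j k) *
          f.appLE V (f ⁻¹ᵁ V ⊓ C i j) inf_le_left (a j) = f.appLE V (f ⁻¹ᵁ V ⊓ C i j) inf_le_left (a k) := by
        refine map_injective_of_isIntegral Z (homOfLE (inf_le_left : O ≤ f ⁻¹ᵁ V ⊓ C i j)) ?_
        change resO Z (inf_le_left : O ≤ f ⁻¹ᵁ V ⊓ C i j) _ = resO Z (inf_le_left : O ≤ f ⁻¹ᵁ V ⊓ C i j) _
        rw [map_mul, resO_resO, hres, hres, hrel j, hrel k, hcjk]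
        ring
      refine ⟨heq, fun _ h0 => hne ?_⟩
      have h1 : f.appLE V O hOV (a j) = 0 := by rw [← hres, h0, map_zero]
      have h2 := c_cross i j j0 j0 hOj hO0
      rw [c_self, map_one, mul_one] at h2
      calc f.appLE V O hOV (a j0) = resO Z hO0 1 * f.appLE V O hOV (a j0) := by rw [map_one, one_mul]
        _ = resO Z hO0 (c i j0 j0) * f.appLE V O hOV (a j0) := by rw [c_self]
        _ = _ := by
          rw [c_cross i j0 j j0 hO0 hOj, mul_assoc, mul_comm (resO Z hOj _), ← mul_assoc, ← hrel j, h1, zero_mul]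
    refine ⟨⟨V, hV⟩, a, hxV, ?_, fun j hj => (key j j).2 hj, fun j k => (key j k).1⟩
    rw [Scheme.IdealSheafData.ideal_iSup, iSup_apply, Ideal.span, Submodule.span_range_eq_iSup]
    refine iSup_congr fun k => ?_
    exact ZeroSch.ideal_zeroScheme_eq_span _ hQ ⟨V, hV⟩ hgV (by rw [val_homOf, ha k])
  · refine fun h => ?_
    have hmem : genericPoint X ∈ (⨆ k, PicF2.zeroScheme Q (homOf (u k))).support.compl := fun hs => by
      have h1 := (Scheme.IdealSheafData.support_antitone (le_iSup (fun k => PicF2.zeroScheme Q (homOf (u k))) j0) hs :)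
      rw [← SetLike.mem_coe, NegTwist.coe_support_zeroScheme hQ] at h1
      refine h1 ((TMul.mem_genLocus_iff _).mpr ⟨G, hσ, ?_⟩)
      rw [val_homOf, hue, hr0, one_smul]
      exact he
    rw [h] at hmem
    exact hmem

end Groth.Agent.BiratBlow
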