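import Groth.Agent.BiratBlow.Ideal
import Groth.Agent.BlowAmp.Chart
import Groth.Agent.BlowUpExist.Global
import Groth.Agent.RZExt.Consequences

/-!
# A birational projective morphism with a coordinate ideal is a blow-up
-/

set_option autoImplicit false
set_option linter.style.haveILetI false
set_option backward.isDefEq.respectTransparency false
set_option backward.isDefEq.respectTransparency.types false

universe u

open CategoryTheory CategoryTheory.Limits AlgebraicGeometry TopologicalSpace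
open Groth.Agent.QC (resO resO_resO resO_self)

noncomputable section

namespace Groth.Agent.BiratBlow

variable {Z X : Scheme.{u}} {N : ℕ} (i : Z ⟶ CohB1.ProjSpaceOver N X) {f : Z ⟶ X}

theorem preimage_chartOver (hi : i ≫ CohB1.ProjSpaceOver.toBase N X = f) (j : Fin (N + 1)) (V : X.Opens) :
    i ⁻¹ᵁ ProjMor.chartOver N j V = f ⁻¹ᵁ V ⊓ C i j := by
  subst hi
  rw [inf_comm]
  rfl

theorem isAffineOpen_W [IsClosedImmersion i] (hi : i ≫ CohB1.ProjSpaceOver.toBase N X = f) (j : Fin (N + 1))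
    {V : X.Opens} (hV : IsAffineOpen V) : IsAffineOpen (f ⁻¹ᵁ V ⊓ C i j) :=
  preimage_chartOver i hi j V ▸ (ProjMor.isAffineOpen_chartOver N j hV).preimage i

/-- The ratios and the base generate the functions of a chart. -/
theorem closure_eq_top [IsClosedImmersion i] (hi : i ≫ CohB1.ProjSpaceOver.toBase N X = f) (j : Fin (N + 1))
    {V : X.Opens} (hV : IsAffineOpen V) :
    Subring.closure (Set.range (ProjMor.ev f V (f ⁻¹ᵁ V ⊓ C i j) inf_le_left) ∪
      Set.range fun k => resO Z (inf_le_right : f ⁻¹ᵁ V ⊓ C i j ≤ C i j) (c i j k)) = ⊤ := by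
  subst hi
  have hle : (i ≫ CohB1.ProjSpaceOver.toBase N X) ⁻¹ᵁ V ⊓ C i j ≤ i ⁻¹ᵁ ProjMor.chartOver N j V :=
    fun z hz => ⟨hz.2, hz.1⟩
  have hsurj : Function.Surjective (ProjMor.ev i (ProjMor.chartOver N j V) _ hle) := by
    have h : ∀ (W : Z.Opens) (e : W = i ⁻¹ᵁ ProjMor.chartOver N j V),
        Function.Surjective (ProjMor.ev i (ProjMor.chartOver N j V) W e.le) := by
      rintro W rfl
      change Function.Surjective (i.appLE _ _ le_rfl)
      rw [Scheme.Hom.appLE_eq_app]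
      exact i.app_surjective _ (ProjMor.isAffineOpen_chartOver N j hV)
    exact h _ (preimage_chartOver i rfl j V).symm
  rw [eq_top_iff, ← RingHom.range_eq_top_of_surjective _ hsurj, RingHom.range_eq_map,
    ← SymAlg.chartOver_generated N j hV, RingHom.map_closure, Subring.closure_le]
  rintro _ ⟨_, ⟨a, rfl⟩ | ⟨k, rfl⟩, rfl⟩
  · refine Subring.subset_closure (Or.inl ⟨a, ?_⟩)
    change (Scheme.Hom.appLE _ V _ _) a = ((Scheme.Hom.appLE _ V _ _) ≫ i.appLE _ _ hle) a
    rw [Scheme.Hom.appLE_comp_appLE]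
  · refine Subring.subset_closure (Or.inr ⟨k, ?_⟩)
    refine (ProjMor.ev_res _ _ _ _).trans ?_
    change (Scheme.Hom.appLE _ _ _ _) (ProjMor.ratio N j k) =
      ((Scheme.Hom.appLE _ _ _ _) ≫ i.appLE _ _ hle) (ProjMor.ratio N j k)
    rw [Scheme.Hom.appLE_comp_appLE]

/-- A generator of a Cartier ideal on a nonempty affine open of an integral scheme is nonzero. -/
theorem ne_zero_of_span {B : Scheme.{u}} [IsIntegral B] {E : B.IdealSheafData} (hE : BlowUp.IsEffCartierIdeal E)
    (G : B.affineOpens) [Nonempty G.1] {t : Γ(B, G.1)} (h : E.ideal G = Ideal.span {t}) : t ≠ 0 := by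
  intro h0
  obtain ⟨⟨w, hw⟩⟩ := (inferInstance : Nonempty G.1)
  obtain ⟨W, hwW, hWG, g, hg, hge⟩ := BlowUpLib.exists_small_generator hE (show w ∈ G.1 from hw)
  haveI : Nonempty W.1 := ⟨⟨w, hwW⟩⟩
  have h4 : E.ideal W = ⊥ := by
    rw [← E.map_ideal (U := W) (V := G) hWG, h, h0, Ideal.span_singleton_eq_bot.2 rfl, Ideal.map_bot]
  rw [hge, Ideal.span_singleton_eq_bot] at h4
  exact nonZeroDivisors.ne_zero hg h4

/-- A coordinate ideal pulls back to a Cartier ideal. -/
theorem cartier_comap [IsIntegral Z] [IsClosedImmersion i] (hi : i ≫ CohB1.ProjSpaceOver.toBase N X = f)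
    {I : X.IdealSheafData} (hI : IsCoordIdeal i f I) : BlowUp.IsEffCartierIdeal (I.comap f) := fun z => by
  obtain ⟨V, a, hzV, hideal, hne, hrel⟩ := hI (f z)
  obtain ⟨j, hj⟩ := exists_mem_C i z
  have hW := isAffineOpen_W i hi j V.2
  haveI : Nonempty (f ⁻¹ᵁ V.1 ⊓ C i j : Z.Opens) := ⟨⟨z, hzV, hj⟩⟩
  refine ⟨⟨_, hW⟩, ⟨hzV, hj⟩, f.appLE V.1 _ inf_le_left (a j),
    mem_nonZeroDivisors_of_ne_zero (hne j ⟨z, hzV, hj⟩), ?_⟩
  rw [FpqcDescent.ideal_comap_appLE I f V ⟨_, hW⟩ inf_le_left, hideal, Ideal.map_span]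
  refine le_antisymm (Ideal.span_le.2 ?_) (Ideal.span_mono (Set.singleton_subset_iff.2 ⟨a j, ⟨j, rfl⟩, rfl⟩))
  rintro _ ⟨_, ⟨k, rfl⟩, rfl⟩
  rw [SetLike.mem_coe, Ideal.mem_span_singleton', ← hrel j k]
  exact ⟨_, rfl⟩

set_option maxHeartbeats 1600000 in
/-- A birational projective morphism with a coordinate ideal is the blow-up of that ideal. -/
theorem isBlowUp [IsIntegral Z] [IsIntegral X] [IsClosedImmersion i]
    (hi : i ≫ CohB1.ProjSpaceOver.toBase N X = f) [Surjective f]
    {I : X.IdealSheafData} (hI : IsCoordIdeal i f I) (hsupp : I.support.compl ≠ ⊥) : BlowUp.IsBlowUp f I := by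
  obtain ⟨B, b, hb⟩ := BlowUpExist.exists_isBlowUp X I
  obtain ⟨h, hh, -⟩ := hb.2 Z f (cartier_comap i hi hI)
  -- `B` is integral
  haveI : IsReduced B := BlowUpLib.isReduced_blowUp hb
  haveI : IsIso (b ∣_ I.support.compl) := BlowUpLib.isIso_restrict hb
  haveI : Nonempty (I.support.compl : X.Opens) := by
    by_contra hne
    exact hsupp (eq_bot_iff.2 fun x hx => (hne ⟨⟨x, hx⟩⟩).elim)
  have hirr : IsIrreducible ((b ⁻¹ᵁ I.support.compl : B.Opens) : Set B) := by
    haveI : IsIntegral (Scheme.Opens.toScheme (I.support.compl : X.Opens)) := isIntegral_of_isOpenImmersion (Scheme.Opens.ι (I.support.compl : X.Opens))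
    have h1 := (IrreducibleSpace.isIrreducible_univ ((Scheme.Opens.toScheme (I.support.compl : X.Opens)) : Type u)).image
      (inv (b ∣_ I.support.compl) ≫ (b ⁻¹ᵁ I.support.compl).ι) (Scheme.Hom.continuous _).continuousOn
    rwa [Set.image_univ, ← Scheme.Hom.coe_opensRange, Scheme.Hom.opensRange_comp_of_isIso,
      Scheme.Opens.opensRange_ι] at h1
  have hdense : Dense ((b ⁻¹ᵁ I.support.compl : B.Opens) : Set B) := by
    have := RZExt.dense_awayFrom hb.1
    rwa [Scheme.IdealSheafData.support_comap] at this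
  haveI : PreirreducibleSpace B := ⟨by
    have := hirr.2.closure
    rwa [hdense.closure_eq] at this⟩
  haveI : IrreducibleSpace B := { toNonempty := hirr.1.to_type.map (fun w => (w : B)) }
  haveI : IsIntegral B := isIntegral_of_irreducibleSpace_of_isReduced B
  -- affine charts
  have hloc : ∀ w : B, ∃ (G : B.affineOpens) (W : Z.Opens) (hle : W ≤ h ⁻¹ᵁ G.1), w ∈ G.1 ∧ IsAffineOpen W ∧
      h ⁻¹ᵁ G.1 ≤ W ∧ Function.Surjective (ProjMor.ev h G.1 W hle) := by
    intro w
    obtain ⟨V, a, hwV, hideal, hne, hrel⟩ := hI (b w)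
    obtain ⟨G, hG, hcov, hgen, hmax⟩ := BlowAmp.exists_chartOpen hb V
    let A : Fin (N + 1) → I.ideal V := fun j => ⟨a j, hideal.ge (Ideal.subset_span ⟨j, rfl⟩)⟩
    have hmem : ∀ (q : I.ideal V) (k : Fin (N + 1)), ∃ μ,
        μ * b.appLE V.1 (G q).1 (hG q) q.1 = b.appLE V.1 (G q).1 (hG q) (a k) := fun q k => by
      rw [← Ideal.mem_span_singleton', ← hgen q, FpqcDescent.ideal_comap_appLE I b V (G q) (hG q)]
      exact Ideal.mem_map_of_mem _ (A k).2
    -- where a coordinate generates, the point lies in its chart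
    have hchart : ∀ (q : I.ideal V) (k : Fin (N + 1)) (μ : Γ(B, (G q).1)),
        μ * b.appLE V.1 (G q).1 (hG q) q.1 = b.appLE V.1 (G q).1 (hG q) (a k) →
        B.basicOpen μ ≤ (G (A k)).1 := fun q k μ hμ => by
      have hB : IsAffineOpen (B.basicOpen μ) := (G q).2.basicOpen μ
      have hspan : (I.comap b).ideal ⟨_, hB⟩ = Ideal.span
          {b.appLE V.1 (B.basicOpen μ) ((B.basicOpen_le μ).trans (hG q)) (a k)} := by
        have hunit : IsUnit (resO B (B.basicOpen_le μ) μ) := B.toRingedSpace.isUnit_res_basicOpen μ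
        have e : b.appLE V.1 (B.basicOpen μ) ((B.basicOpen_le μ).trans (hG q)) (a k) =
            resO B (B.basicOpen_le μ) μ * resO B (B.basicOpen_le μ) (b.appLE V.1 (G q).1 (hG q) q.1) := by
          rw [← map_mul, hμ]
          exact congr($(Scheme.Hom.appLE_map b (hG q) (homOfLE (B.basicOpen_le μ)).op) (a k)).symm
        rw [e, Ideal.span_singleton_mul_left_unit hunit,
          ← (I.comap b).map_ideal (U := ⟨_, hB⟩) (V := G q) (B.basicOpen_le μ), hgen q, Ideal.map_span,
          Set.image_singleton]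
        rfl
      refine hmax (A k) ⟨_, hB⟩ ((B.basicOpen_le μ).trans (hG q)) ?_ hspan
      rcases isEmpty_or_nonempty (B.basicOpen μ) with he | he
      · refine mem_nonZeroDivisors_iff_right.2 fun _ _ => ?_
        exact TopCat.Presheaf.IsSheaf.section_ext B.sheaf.property fun z hz => (he.false ⟨z, hz⟩).elim
      · exact mem_nonZeroDivisors_of_ne_zero (ne_zero_of_span hb.1 ⟨_, hB⟩ hspan)
    obtain ⟨q, hq⟩ := hcov w hwV
    have hex : ∃ k μ, μ * b.appLE V.1 (G q).1 (hG q) q.1 = b.appLE V.1 (G q).1 (hG q) (a k) ∧ w ∈ B.basicOpen μ := by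
      choose μ hμ using hmem q
      by_contra hno
      push Not at hno
      obtain ⟨l, hl⟩ := (Submodule.mem_span_range_iff_exists_fun _).1 (hideal.le q.2)
      haveI : Nonempty (G q).1 := ⟨⟨w, hq⟩⟩
      have hnz : b.appLE V.1 (G q).1 (hG q) q.1 ≠ 0 := ne_zero_of_span hb.1 (G q) (hgen q)
      have h1 : ∑ k, b.appLE V.1 (G q).1 (hG q) (l k) * μ k = 1 := by
        haveI : Nonempty (G q).1 := ⟨⟨w, hq⟩⟩
        refine mul_right_cancel₀ hnz ?_
        rw [one_mul, Finset.sum_mul]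
        conv_rhs => rw [← hl]
        simp only [map_sum, smul_eq_mul, map_mul, mul_assoc, hμ]
      let φ := (B.presheaf.germ (G q).1 w hq).hom
      have h2 : IsUnit (φ (∑ k, b.appLE V.1 (G q).1 (hG q) (l k) * μ k)) := by rw [h1, map_one]; exact isUnit_one
      rw [map_sum] at h2
      refine (IsLocalRing.mem_maximalIdeal _).1 (Ideal.sum_mem _ fun k _ => ?_) h2
      rw [map_mul]
      exact Ideal.mul_mem_left _ _ ((IsLocalRing.mem_maximalIdeal _).2 fun hu =>
        hno k (μ k) (hμ k) ((B.mem_basicOpen _ _ hq).2 hu))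
    obtain ⟨j, μ₀, hμ₀, hwμ⟩ := hex
    have hW := isAffineOpen_W i hi j V.2
    have hsub : h ⁻¹ᵁ b ⁻¹ᵁ V.1 = f ⁻¹ᵁ V.1 := by rw [← hh]; rfl
    have hcomp : ∀ (G' : B.Opens) (hG' : G' ≤ b ⁻¹ᵁ V.1) (O : Z.Opens) (hO : O ≤ h ⁻¹ᵁ G') (hO' : O ≤ f ⁻¹ᵁ V.1)
        (t : Γ(X, V.1)), ProjMor.ev h G' O hO (b.appLE V.1 G' hG' t) = f.appLE V.1 O hO' t := by
      intro G' hG' O hO hO' t
      subst hh
      change ((Scheme.Hom.appLE _ V.1 _ _) ≫ h.appLE _ O hO) t = _
      rw [Scheme.Hom.appLE_comp_appLE]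
    have hle : f ⁻¹ᵁ V.1 ⊓ C i j ≤ h ⁻¹ᵁ (G (A j)).1 := by
      rintro z ⟨hzV, hzj⟩
      obtain ⟨q', hq'⟩ := hcov (h z) (hsub.ge hzV)
      obtain ⟨μ, hμ⟩ := hmem q' j
      refine hchart q' j μ hμ ?_
      by_contra hzμ
      -- pull back to a neighbourhood of `z`
      let O : Z.Opens := (f ⁻¹ᵁ V.1 ⊓ C i j) ⊓ h ⁻¹ᵁ (G q').1
      haveI : Nonempty O := ⟨⟨z, ⟨hzV, hzj⟩, hq'⟩⟩
      obtain ⟨l, hl⟩ := (Submodule.mem_span_range_iff_exists_fun _).1 (hideal.le q'.2)
      have hO1 : O ≤ f ⁻¹ᵁ V.1 ⊓ C i j := inf_le_left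
      have hOV : O ≤ f ⁻¹ᵁ V.1 := hO1.trans inf_le_left
      have e1 := congrArg (ProjMor.ev h (G q').1 O inf_le_right) hμ
      rw [map_mul, hcomp _ _ _ _ hOV, hcomp _ _ _ _ hOV] at e1
      have hfl : f.appLE V.1 O hOV q'.1 =
          (∑ k, f.appLE V.1 O hOV (l k) * resO Z (hO1.trans inf_le_right) (c i j k)) * f.appLE V.1 O hOV (a j) := by
        rw [Finset.sum_mul, ← hl, map_sum]
        refine Finset.sum_congr rfl fun k _ => ?_
        have e2 := congrArg (resO Z hO1) (hrel j k)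
        rw [map_mul, resO_resO] at e2
        rw [smul_eq_mul, map_mul, mul_assoc]
        refine congrArg (_ * ·) ?_
        refine Eq.trans ?_ (e2.symm.trans (congrArg (_ * ·) (ProjMor.ev_res f _ _ _)))
        exact (ProjMor.ev_res f _ _ _).symm
      rw [hfl, ← mul_assoc] at e1
      have haj : f.appLE V.1 O hOV (a j) ≠ 0 := fun h0 => hne j ⟨z, hzV, hzj⟩ (by
        refine map_injective_of_isIntegral Z (homOfLE hO1) ?_
        refine (ProjMor.ev_res f _ _ _).trans (h0.trans (map_zero _).symm))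
      have e3 := mul_right_cancel₀ haj (e1.trans (one_mul _).symm)
      have hu : IsUnit (ProjMor.ev h (G q').1 O inf_le_right μ) := IsUnit.of_mul_eq_one _ e3
      have hz' : z ∈ Z.basicOpen (ProjMor.ev h (G q').1 O inf_le_right μ) := by
        rw [Z.basicOpen_of_isUnit hu]; exact ⟨⟨hzV, hzj⟩, hq'⟩
      change z ∈ Z.basicOpen (h.appLE _ _ _ μ) at hz'
      rw [Scheme.basicOpen_appLE] at hz'
      exact hzμ hz'.2
    have hge : h ⁻¹ᵁ (G (A j)).1 ≤ f ⁻¹ᵁ V.1 ⊓ C i j := by
      intro z hz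
      have hzV : z ∈ f ⁻¹ᵁ V.1 := hsub.le (hG (A j) hz)
      refine ⟨hzV, ?_⟩
      obtain ⟨l, hl⟩ := exists_mem_C i z
      let O : Z.Opens := (f ⁻¹ᵁ V.1 ⊓ C i l) ⊓ h ⁻¹ᵁ (G (A j)).1
      haveI : Nonempty O := ⟨⟨z, ⟨hzV, hl⟩, hz⟩⟩
      have hO1 : O ≤ f ⁻¹ᵁ V.1 ⊓ C i l := inf_le_left
      have hOV : O ≤ f ⁻¹ᵁ V.1 := hO1.trans inf_le_left
      obtain ⟨μ, hμ⟩ := hmem (A j) l
      have e1 := congrArg (ProjMor.ev h (G (A j)).1 O inf_le_right) hμ
      rw [map_mul, hcomp _ _ _ _ hOV, hcomp _ _ _ _ hOV] at e1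
      have e2 := congrArg (resO Z hO1) (hrel l j)
      rw [map_mul, resO_resO] at e2
      replace e2 := ((congrArg (_ * ·) (ProjMor.ev_res f _ hO1 (a l))).symm.trans e2).trans (ProjMor.ev_res f _ hO1 (a j))
      have hal : f.appLE V.1 O hOV (a l) ≠ 0 := fun h0 => hne l ⟨z, hzV, hl⟩ (by
        refine map_injective_of_isIntegral Z (homOfLE hO1) ?_
        refine (ProjMor.ev_res f _ _ _).trans (h0.trans (map_zero _).symm))
      replace e1 := (congrArg (_ * ·) e2).trans e1
      simp only [← mul_assoc] at e1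
      have e3 := mul_right_cancel₀ hal (e1.trans (one_mul _).symm)
      have hu : IsUnit (resO Z (hO1.trans inf_le_right) (c i l j)) := IsUnit.of_mul_eq_one_right _ e3
      have hz' : z ∈ Z.basicOpen (resO Z (hO1.trans inf_le_right) (c i l j)) := by
        rw [Z.basicOpen_of_isUnit hu]; exact ⟨⟨hzV, hl⟩, hz⟩
      rw [Scheme.basicOpen_res, basicOpen_c] at hz'
      exact hz'.2.2
    refine ⟨G (A j), _, hle, hchart q j μ₀ hμ₀ hwμ, hW, hge, ?_⟩
    rw [← RingHom.range_eq_top, eq_top_iff, ← closure_eq_top i hi j V.2, Subring.closure_le]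
    rintro _ (⟨t, rfl⟩ | ⟨k, rfl⟩)
    · exact ⟨b.appLE V.1 (G (A j)).1 (hG _) t, hcomp _ _ _ _ _ t⟩
    · obtain ⟨μ, hμ⟩ := hmem (A j) k
      refine ⟨μ, ?_⟩
      rcases isEmpty_or_nonempty (f ⁻¹ᵁ V.1 ⊓ C i j : Z.Opens) with he | he
      · exact TopCat.Presheaf.IsSheaf.section_ext Z.sheaf.property fun z hz => (he.false ⟨z, hz⟩).elim
      obtain ⟨⟨z, hz⟩⟩ := he
      haveI : Nonempty (f ⁻¹ᵁ V.1 ⊓ C i j : Z.Opens) := ⟨⟨z, hz⟩⟩
      refine mul_right_cancel₀ (hne j ⟨z, hz⟩) ?_
      have e1 := congrArg (ProjMor.ev h (G (A j)).1 _ hle) hμ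
      rw [map_mul, hcomp _ _ _ _ inf_le_left, hcomp _ _ _ _ inf_le_left] at e1
      exact e1.trans (hrel j k).symm
  choose G W hle hwG hW hge hsurj using hloc
  haveI : IsClosedImmersion h := by
    refine IsZariskiLocalAtTarget.of_iSup_eq_top (P := @IsClosedImmersion) (fun w => (G w).1)
      (top_le_iff.1 fun w _ => Opens.mem_iSup.2 ⟨w, hwG w⟩) fun w => ?_
    haveI : IsAffine (G w).1.toScheme := (G w).2
    have e : h ⁻¹ᵁ (G w).1 = W w := le_antisymm (hge w) (hle w)
    haveI : IsAffine (h ⁻¹ᵁ (G w).1).toScheme := by rw [e]; exact hW w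
    refine ProjMor.isClosedImmersion_restrict_of_surjective h _ ?_
    have h1 : ∀ (O : Z.Opens) (hO : O ≤ h ⁻¹ᵁ (G w).1), O = W w → Function.Surjective (ProjMor.ev h (G w).1 O hO) := by
      rintro O hO rfl
      exact hsurj w
    exact h1 _ _ e
  haveI : Surjective h := ⟨by
    have hcl := h.isClosedEmbedding.isClosed_range
    obtain ⟨z, hz⟩ := f.surjective (genericPoint X)
    have hη : genericPoint B ∈ Set.range h := by
      refine ⟨z, ?_⟩
      have hXU : genericPoint X ∈ (I.support.compl : X.Opens) :=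
        (genericPoint_specializes _).mem_open (I.support.compl : X.Opens).2 (inferInstance : Nonempty (I.support.compl : X.Opens)).some.2
      have hBU : genericPoint B ∈ b ⁻¹ᵁ I.support.compl :=
        (genericPoint_specializes _).mem_open (b ⁻¹ᵁ I.support.compl).2 hirr.1.choose_spec
      have hbinj : Function.Injective (b ∣_ I.support.compl) := (b ∣_ I.support.compl).isOpenEmbedding.injective
      have hbz : b (h z) = genericPoint X := by rw [← Scheme.Hom.comp_apply, hh, hz]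
      have hbη : b (genericPoint B) = genericPoint X :=
        ((genericPoint_spec B).image b.continuous).eq (by
          convert genericPoint_spec X using 1
          rw [Set.image_univ]
          refine (DenseRange.closure_range ?_)
          have hfd : DenseRange f := f.surjective.denseRange
          rw [← hh, Scheme.Hom.comp_base] at hfd
          exact hfd.mono (Set.range_comp_subset_range _ _))
      have := @hbinj ⟨h z, show b (h z) ∈ (I.support.compl : X.Opens) by rw [hbz]; exact hXU⟩ ⟨genericPoint B, hBU⟩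
        (Subtype.ext (by simpa [morphismRestrict_base] using hbz.trans hbη.symm))
      exact congrArg Subtype.val this
    intro y
    exact hcl.closure_subset_iff.2 (Set.singleton_subset_iff.2 hη) (specializes_iff_mem_closure.1 (genericPoint_specializes y))⟩
  haveI : IsIso h := isIso_of_isClosedImmersion_of_surjective h
  exact hh ▸ RZExt.isBlowUp_iso_comp hb h

end Groth.Agent.BiratBlow

namespace Groth.Agent.BiratBlow

/-- A projective birational morphism of integral schemes is a blow-up when the base has an ample module. -/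
theorem exists_isBlowUp_of_birational {Z X : Scheme.{u}} [IsIntegral Z] [IsIntegral X] [IsNoetherian X]
    {M : X.Modules} (hM : CohB1.IsAmple M) (f : Z ⟶ X) {N : ℕ} (i : Z ⟶ CohB1.ProjSpaceOver N X)
    [IsClosedImmersion i] (hi : i ≫ CohB1.ProjSpaceOver.toBase N X = f)
    (U : X.Opens) (hU : (U : Set X).Nonempty) (hUf : IsIso (f ∣_ U)) : ∃ I : X.IdealSheafData, BlowUp.IsBlowUp f I := by
  haveI : IsProper (CohB1.ProjSpaceOver.toBase N X) := by
    haveI := _root_.ProjMor.isProper_toSpec N (ULift.{u} ℤ)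
    exact MorphismProperty.pullback_snd _ _ inferInstance
  haveI : IsProper f := hi ▸ inferInstance
  haveI : Surjective f := ⟨fun x => by
    have hc : IsClosed (Set.range f) := f.isClosedMap.isClosed_range
    have hsub : (U : Set X) ⊆ Set.range f := fun y hy => by
      have hs : Function.Surjective (f ∣_ U) := (TopCat.epi_iff_surjective _).1 inferInstance
      obtain ⟨z, hz⟩ := hs ⟨y, hy⟩
      exact ⟨z.1, by simpa [morphismRestrict_base] using congrArg Subtype.val hz⟩
    exact (hc.closure_subset_iff.2 hsub) ((U.2.dense hU).closure_eq.ge trivial)⟩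
  obtain ⟨I, hI, hsupp⟩ := exists_isCoordIdeal i f hM U hU hUf
  exact ⟨I, isBlowUp i hi hI hsupp⟩

end Groth.Agent.BiratBlow
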